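import Groth.Agent.L28.Divisor.Generic
import Groth.Agent.L21.CurvFib.EtaleField
import Mathlib.AlgebraicGeometry.Morphisms.Flat
import Mathlib.RingTheory.Filtration
import Mathlib.RingTheory.Flat.Basic

/-!
Local factorisation of rational functions on an étale scheme over a curve.
-/

set_option autoImplicit false
set_option linter.style.haveILetI false
set_option linter.unusedSectionVars false
set_option backward.isDefEq.respectTransparency.types false

universe u

open CategoryTheory CategoryTheory.Limits AlgebraicGeometry IsLocalRing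

namespace Groth.L28.Divisor

/-- nonzero elements of a noetherian local ring with principal maximal ideal -/
theorem exists_unit_mul_pow {R : Type*} [CommRing R] [IsLocalRing R] [IsNoetherianRing R] (τ : R)
    (hτ : maximalIdeal R = Ideal.span {τ}) (b : R) (hb : b ≠ 0) : ∃ (n : ℕ) (e : Rˣ), b = e * τ ^ n := by
  rcases em (IsUnit b) with hu | hu
  · exact ⟨0, hu.unit, by simp⟩
  have hτu : ¬ IsUnit τ := fun h => (maximalIdeal.isMaximal R).ne_top (hτ.trans (Ideal.span_singleton_eq_top.2 h))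
  have hex : ∃ n, b ∉ Ideal.span {τ} ^ n := by
    by_contra h
    push Not at h
    refine hb ((Ideal.mem_bot).1 ?_)
    rw [← Ideal.iInf_pow_eq_bot_of_isLocalRing (I := Ideal.span {τ}) (fun h' => hτu (Ideal.span_singleton_eq_top.1 h'))]
    exact Submodule.mem_iInf _ |>.2 h
  classical
  obtain ⟨n, hn⟩ : ∃ n, Nat.find hex = n + 1 := by
    refine ⟨Nat.find hex - 1, ?_⟩
    have : Nat.find hex ≠ 0 := fun h0 => by
      have := Nat.find_spec hex
      rw [h0, pow_zero, Ideal.one_eq_top] at this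
      exact this trivial
    omega
  have h1 : b ∈ Ideal.span {τ} ^ n := not_not.1 (Nat.find_min hex (by omega))
  rw [Ideal.span_singleton_pow, Ideal.mem_span_singleton] at h1
  obtain ⟨c, rfl⟩ := h1
  have hc : IsUnit c := by
    by_contra hc
    obtain ⟨d, rfl⟩ := Ideal.mem_span_singleton.1 (hτ.le hc)
    refine Nat.find_spec hex ?_
    rw [hn, Ideal.span_singleton_pow, Ideal.mem_span_singleton]
    exact ⟨d, by ring⟩
  exact ⟨n, hc.unit, by rw [IsUnit.unit_spec]; ring⟩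

variable {X : Scheme.{u}} [AlgebraicGeometry.IsIntegral X] {U : X.Opens} (hU : IsAffineOpen U)
  {W : Scheme.{u}} [IsAffine W] (v : W ⟶ X) [AlgebraicGeometry.Etale v] (hv : ⊤ ≤ v ⁻¹ᵁ U) (w : W)

/-- germ at a point of a global function -/
noncomputable abbrev grm : Γ(W, ⊤) →+* W.presheaf.stalk w := (W.presheaf.germ ⊤ w trivial).hom

theorem grm_str (a : Γ(X, U)) :
    grm w (str v hv a) = (v.stalkMap w).hom (X.presheaf.germ U (v w) (hv trivial) a) := by
  refine Eq.trans ?_ (Scheme.Hom.germ_stalkMap_apply v U w (hv trivial) a).symm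
  exact W.presheaf.germ_res_apply (homOfLE hv) w trivial (v.app U a)

include hU in
theorem isSMulRegular_grm_str {a : Γ(X, U)} (ha : a ≠ 0) (r : W.presheaf.stalk w)
    (h : grm w (str v hv a) * r = 0) : r = 0 := by
  haveI : Nonempty U := ⟨⟨v w, hv trivial⟩⟩
  letI := (v.stalkMap w).hom.toAlgebra
  haveI : Module.Flat (X.presheaf.stalk (v w)) (W.presheaf.stalk w) := Flat.stalkMap v w
  have hne : X.presheaf.germ U (v w) (hv trivial) a ≠ 0 := fun h0 =>
    ha (germ_injective_of_isIntegral X (v w) (hv trivial) (h0.trans (map_zero _).symm))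
  have hreg : IsSMulRegular (W.presheaf.stalk w) (X.presheaf.germ U (v w) (hv trivial) a) :=
    IsSMulRegular.of_flat (fun x y hxy => mul_left_cancel₀ hne hxy)
  refine hreg ?_
  show _ • r = _ • (0 : W.presheaf.stalk w)
  rw [smul_zero, Algebra.smul_def]
  rw [grm_str] at h
  exact h

include hU hv in
theorem grm_eq_zero_of_res {b : Γ(W, ⊤)} (h : res v b = 0) : grm w b = 0 := by
  haveI : Nonempty U := ⟨⟨v w, hv trivial⟩⟩
  obtain ⟨a, ha, hab⟩ := (exists_frac hU v hv).2.1 b h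
  refine isSMulRegular_grm_str hU v hv w ha _ ?_
  rw [← map_mul, hab, map_zero]

include hU hv in
theorem grm_eq_of_res {b b' : Γ(W, ⊤)} (h : res v b = res v b') : grm w b = grm w b' := by
  have := grm_eq_zero_of_res hU v hv w (b := b - b') (by rw [map_sub, h, sub_self])
  rwa [map_sub, sub_eq_zero] at this

include hU in
/-- a uniformiser is never a unit times a function without zeros -/
theorem pow_eq_zero_of_res (t : Γ(X, U))
    (ht : X.presheaf.germ U (v w) (hv trivial) t ∈ maximalIdeal (X.presheaf.stalk (v w)))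
    (α β : Γ(W, ⊤)) (hβ : IsUnit β) (n : ℕ)
    (h : res v (α * str v hv t ^ n) = res v β) : n = 0 := by
  by_contra hn
  have h1 := grm_eq_of_res hU v hv w h
  have hm : grm w (str v hv t) ∈ maximalIdeal (W.presheaf.stalk w) := by
    rw [grm_str]
    exact fun hu => ht (isUnit_of_map_unit (v.stalkMap w).hom _ hu)
  have h2 : grm w (α * str v hv t ^ n) ∈ maximalIdeal (W.presheaf.stalk w) := by
    rw [map_mul, map_pow]
    exact Ideal.mul_mem_left _ _ (Ideal.pow_mem_of_mem _ hm n (Nat.pos_of_ne_zero hn))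
  rw [h1] at h2
  exact h2 (hβ.map _)

/-- two functions with the same germ agree nearby -/
theorem exists_open_eq {Z : Scheme.{u}} (z : Z) {a b : Γ(Z, ⊤)}
    (h : Z.presheaf.germ ⊤ z trivial a = Z.presheaf.germ ⊤ z trivial b) :
    ∃ O : Z.Opens, z ∈ O ∧ Z.presheaf.map (homOfLE (le_top : O ≤ ⊤)).op a = Z.presheaf.map (homOfLE (le_top : O ≤ ⊤)).op b := by
  obtain ⟨O, hzO, iU, iV, he⟩ := Z.presheaf.germ_eq (U := ⊤) (V := ⊤) z trivial trivial a b h
  exact ⟨O, hzO, he⟩

include hU in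
/-- rational functions without zeros are locally a unit times a power of the uniformiser -/
theorem exists_local [IsLocallyNoetherian X] (t : Γ(X, U))
    (ht : maximalIdeal (X.presheaf.stalk (v w)) = Ideal.span {X.presheaf.germ U (v w) (hv trivial) t})
    (s : Γ(pullback v (X.fromSpecStalk (genericPoint X)), ⊤)) (hs : IsUnit s) :
    ∃ (O : W.Opens) (_ : w ∈ O) (b a : Γ(W, ⊤)) (β α : Γ(W, O)) (n m : ℕ), IsUnit β ∧ IsUnit α ∧
      (grm w (str v hv t) = 0 → n = 0 ∧ m = 0) ∧ s * res v a = res v b ∧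
      W.presheaf.map (homOfLE (le_top : O ≤ ⊤)).op a = α * W.presheaf.map (homOfLE (le_top : O ≤ ⊤)).op (str v hv t) ^ m ∧
      W.presheaf.map (homOfLE (le_top : O ≤ ⊤)).op b = β * W.presheaf.map (homOfLE (le_top : O ≤ ⊤)).op (str v hv t) ^ n := by
  haveI : Nonempty U := ⟨⟨v w, hv trivial⟩⟩
  haveI : IsLocallyNoetherian W := LocallyOfFiniteType.isLocallyNoetherian v
  obtain ⟨b, a, ha, hab⟩ := (exists_frac hU v hv).1 s
  obtain ⟨s', hs'⟩ := hs.exists_right_inv
  obtain ⟨b', a', ha', hab'⟩ := (exists_frac hU v hv).1 s'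
  have hb : grm w b ≠ 0 := by
    intro h0
    have h1 : res v (str v hv a * str v hv a') = res v (b * b') := by
      rw [map_mul, map_mul, ← hab, ← hab', mul_mul_mul_comm, hs', one_mul]
    have h2 := grm_eq_of_res hU v hv w h1
    rw [map_mul, map_mul, h0, zero_mul] at h2
    have h3 := isSMulRegular_grm_str hU v hv w ha _ h2
    exact one_ne_zero (isSMulRegular_grm_str hU v hv w ha' (1 : W.presheaf.stalk w) ((mul_one _).trans h3))
  have ha0 : grm w (str v hv a) ≠ 0 := fun h0 =>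
    one_ne_zero (isSMulRegular_grm_str hU v hv w ha (1 : W.presheaf.stalk w) ((mul_one _).trans h0))
  have hmax : maximalIdeal (W.presheaf.stalk w) = Ideal.span {grm w (str v hv t)} := by
    rw [grm_str, ← Groth.L21.CurvFib.map_maximalIdeal_stalkMap_of_etale v w, ht, Ideal.map_span, Set.image_singleton]
  obtain ⟨n, e, hn⟩ := exists_unit_mul_pow _ hmax _ hb
  obtain ⟨m, e', hm⟩ := exists_unit_mul_pow _ hmax _ ha0
  obtain ⟨O₁, hO₁, β₁, hβ₁⟩ := W.presheaf.exists_germ_eq (e : W.presheaf.stalk w)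
  obtain ⟨O₂, hO₂, α₁, hα₁⟩ := W.presheaf.exists_germ_eq (e' : W.presheaf.stalk w)
  let O₀ := W.basicOpen β₁ ⊓ W.basicOpen α₁
  have hO₀ : w ∈ O₀ := ⟨(W.mem_basicOpen β₁ w hO₁).2 (hβ₁ ▸ e.isUnit), (W.mem_basicOpen α₁ w hO₂).2 (hα₁ ▸ e'.isUnit)⟩
  let β₀ := W.presheaf.map (homOfLE (inf_le_left.trans (W.basicOpen_le β₁) : O₀ ≤ O₁)).op β₁
  let α₀ := W.presheaf.map (homOfLE (inf_le_right.trans (W.basicOpen_le α₁) : O₀ ≤ O₂)).op α₁
  let T₀ := W.presheaf.map (homOfLE (le_top : O₀ ≤ ⊤)).op (str v hv t)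
  have g1 : W.presheaf.germ O₀ w hO₀ (W.presheaf.map (homOfLE (le_top : O₀ ≤ ⊤)).op b) =
      W.presheaf.germ O₀ w hO₀ (β₀ * T₀ ^ n) := by
    rw [map_mul, map_pow, W.presheaf.germ_res_apply, W.presheaf.germ_res_apply, W.presheaf.germ_res_apply, hβ₁]
    exact hn
  have g2 : W.presheaf.germ O₀ w hO₀ (W.presheaf.map (homOfLE (le_top : O₀ ≤ ⊤)).op (str v hv a)) =
      W.presheaf.germ O₀ w hO₀ (α₀ * T₀ ^ m) := by
    rw [map_mul, map_pow, W.presheaf.germ_res_apply, W.presheaf.germ_res_apply, W.presheaf.germ_res_apply, hα₁]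
    exact hm
  obtain ⟨O₃, hO₃, i₃, i₃', e₃⟩ := W.presheaf.germ_eq w hO₀ hO₀ _ _ g1
  obtain ⟨O₄, hO₄, i₄, i₄', e₄⟩ := W.presheaf.germ_eq w hO₀ hO₀ _ _ g2
  let O := O₃ ⊓ O₄
  let k₃ : O ⟶ O₃ := homOfLE inf_le_left
  let k₄ : O ⟶ O₄ := homOfLE inf_le_right
  have hh : ∀ {P Q R : W.Opens} (i : Q ⟶ P) (j : R ⟶ Q) (k : R ⟶ P) (x : Γ(W, P)),
      W.presheaf.map j.op (W.presheaf.map i.op x) = W.presheaf.map k.op x := fun i j k x => by
    rw [Subsingleton.elim k (j ≫ i), op_comp, Functor.map_comp]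
    rfl
  refine ⟨O, ⟨hO₃, hO₄⟩, b, str v hv a, W.presheaf.map (k₃ ≫ i₃).op β₀, W.presheaf.map (k₄ ≫ i₄).op α₀, n, m,
    (IsUnit.map (W.presheaf.map _).hom ?_), (IsUnit.map (W.presheaf.map _).hom ?_), fun h0 => ?_, hab, ?_, ?_⟩
  · have h := RingedSpace.isUnit_res_basicOpen W.toRingedSpace β₁
    have := h.map (W.presheaf.map (homOfLE (inf_le_left : O₀ ≤ W.basicOpen β₁)).op).hom
    exact ((W.presheaf.map_comp_apply _ _ _).symm ▸ this :)
  · have h := RingedSpace.isUnit_res_basicOpen W.toRingedSpace α₁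
    have := h.map (W.presheaf.map (homOfLE (inf_le_right : O₀ ≤ W.basicOpen α₁)).op).hom
    exact ((W.presheaf.map_comp_apply _ _ _).symm ▸ this :)
  · rw [h0] at hn hm
    refine ⟨by_contra fun h => hb ?_, by_contra fun h => ha0 ?_⟩
    · rw [hn, zero_pow h, mul_zero]
    · rw [hm, zero_pow h, mul_zero]
  · have e := congrArg (W.presheaf.map k₄.op) e₄
    rw [show i₄' = i₄ from Subsingleton.elim _ _] at e
    simp only [map_mul, map_pow, T₀] at e
    rw [hh i₄ k₄ (k₄ ≫ i₄) α₀, hh i₄ k₄ (k₄ ≫ i₄), hh _ _ (homOfLE (le_top : O ≤ ⊤)), hh i₄ k₄ (k₄ ≫ i₄),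
      hh _ _ (homOfLE (le_top : O ≤ ⊤))] at e
    exact e
  · have e := congrArg (W.presheaf.map k₃.op) e₃
    rw [show i₃' = i₃ from Subsingleton.elim _ _] at e
    simp only [map_mul, map_pow, T₀] at e
    rw [hh i₃ k₃ (k₃ ≫ i₃) β₀, hh i₃ k₃ (k₃ ≫ i₃), hh _ _ (homOfLE (le_top : O ≤ ⊤)), hh i₃ k₃ (k₃ ≫ i₃),
      hh _ _ (homOfLE (le_top : O ≤ ⊤))] at e
    exact e

end Groth.L28.Divisor
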