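import Groth.Agent.L28.Pts.Basic
import Groth.Agent.L27.EtSite.Points
import Groth.Agent.L27.EtSite.PushStalk
import Groth.Agent.L27.EtSite.PropA
import Groth.Agent.L27.EtSite.Common
import Groth.Agent.L27.EtSite.Pull
import Groth.Prelude.Def_EtCore
import Mathlib.Algebra.Category.Grp.AB
import Mathlib.Algebra.Category.Grp.FilteredColimits
import Mathlib.AlgebraicGeometry.ResidueField

/-!
Germs of sections, morphisms out of the constant sheaf and skyscrapers.
-/

set_option autoImplicit false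
set_option linter.style.haveILetI false
set_option linter.unusedSectionVars false
set_option backward.isDefEq.respectTransparency.types false

universe u

open CategoryTheory CategoryTheory.Limits AlgebraicGeometry Opposite GrothendieckTopology

namespace Groth.L28.Sky

variable {X : Scheme.{u}} {Ω : Type u} [Field Ω] [IsSepClosed Ω] (ξ : Spec (CommRingCat.of Ω) ⟶ X)

/-- germ of a section -/
noncomputable abbrev germ {F : EtCoh.Ab X} (U : X.Etale) (y : (Scheme.pointSmallEtale ξ).fiber.obj U)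
    (s : F.obj.obj (op U)) : (EtCoh.stalk ξ).obj F :=
  (Scheme.pointSmallEtale ξ).toPresheafFiber U y F.obj s

theorem stalk_map_germ {F G : EtCoh.Ab X} (φ : F ⟶ G) (U : X.Etale) (y : (Scheme.pointSmallEtale ξ).fiber.obj U)
    (s : F.obj.obj (op U)) : (EtCoh.stalk ξ).map φ (germ ξ U y s) = germ ξ U y (φ.hom.app (op U) s) :=
  (Scheme.pointSmallEtale ξ).toPresheafFiber_naturality_apply φ.hom U y s

theorem germ_res {F : EtCoh.Ab X} {U V : X.Etale} (g : V ⟶ U) (y : (Scheme.pointSmallEtale ξ).fiber.obj V)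
    (s : F.obj.obj (op U)) :
    germ ξ V y (F.obj.map g.op s) = germ ξ U ((Scheme.pointSmallEtale ξ).fiber.map g y) s :=
  (Scheme.pointSmallEtale ξ).toPresheafFiber_w_apply g y F.obj s

/-- the lift of a point to an open immersion -/
theorem exists_fiber_lift {U V : X.Etale} (g : V ⟶ U) [IsOpenImmersion g.left]
    (y : (Scheme.pointSmallEtale ξ).fiber.obj U) (v : V.left)
    (hv : g.left v = y.left.base (default : Spec (CommRingCat.of Ω))) :
    ∃ y', (Scheme.pointSmallEtale ξ).fiber.map g y' = y ∧ y'.left.base (default : Spec (CommRingCat.of Ω)) = v := by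
  have hr : Set.range y.left ⊆ Set.range g.left := by
    rintro _ ⟨z, rfl⟩
    rw [Subsingleton.elim (α := Spec (CommRingCat.of Ω)) z (default : Spec (CommRingCat.of Ω))]
    exact ⟨v, hv⟩
  let l := IsOpenImmersion.lift g.left y.left hr
  have hl : l ≫ g.left = y.left := IsOpenImmersion.lift_fac _ _ _
  refine ⟨Over.homMk l ?_, Over.OverMorphism.ext hl, g.left.isOpenEmbedding.injective ?_⟩
  · exact (congrArg (l ≫ ·) (MorphismProperty.Over.w g).symm).trans
      ((Category.assoc _ _ _).symm.trans ((congrArg (· ≫ U.hom) hl).trans (Over.w y)))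
  · refine Eq.trans ?_ hv.symm
    show g.left (l (default : Spec (CommRingCat.of Ω))) = _
    exact (Scheme.Hom.comp_apply _ _ _).symm.trans (congrArg (fun k : Spec (CommRingCat.of Ω) ⟶ U.left => k (default : Spec (CommRingCat.of Ω))) hl)

omit [Field Ω] in
/-- sections whose germs vanish vanish -/
theorem eq_zero_of_germs {F : EtCoh.Ab X} {U : X.Etale} (s : F.obj.obj (op U))
    (h : ∀ (Ω' : Type u) [Field Ω'] [IsSepClosed Ω'] (ξ' : Spec (CommRingCat.of Ω') ⟶ X)
      (y : (Scheme.pointSmallEtale ξ').fiber.obj U), germ ξ' U y s = 0) : s = 0 := by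
  refine Groth.L27.EtSite.ext_of_locally F fun x => ?_
  obtain ⟨Ω', _, _, ξ', hξ⟩ := Groth.L27.EtSite.exists_geometric_point (U.hom x)
  obtain ⟨y, hy⟩ := Groth.L27.EtSite.exists_fiber ξ' U x hξ.symm
  have e : germ ξ' U y s = germ ξ' U y 0 := (h Ω' ξ' y).trans (map_zero _).symm
  obtain ⟨W, g, w, hw, hg⟩ := ((Scheme.pointSmallEtale ξ').toPresheafFiber_eq_iff' _ _ _ _).1 e
  refine ⟨W, g, w.left.base (default : Spec (CommRingCat.of Ω')), ?_, hg⟩
  rw [← hy, ← hw]
  rfl

section Const

/-- the section one -/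
noncomputable def one (U : X.Etale) : (EtCoh.const X ℤ).obj.obj (op U) :=
  Pts.constSect (J := X.smallEtaleTopology) (AddCommGrpCat.of (ULift.{u + 1} ℤ)) U ⟨1⟩

theorem one_map {U V : X.Etale} (g : V ⟶ U) : (EtCoh.const X ℤ).obj.map g.op (one U) = one V :=
  ConcreteCategory.congr_hom (Pts.constSect_map.{u} (J := X.smallEtaleTopology) (A := AddCommGrpCat.{u + 1})
    (AddCommGrpCat.of (ULift.{u + 1} ℤ)) g) ⟨1⟩

theorem inverted : X.smallEtaleTopology.W.IsInvertedBy
    ((Scheme.pointSmallEtale ξ).presheafFiber (A := AddCommGrpCat.{u + 1})) :=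
  Point.W_isInvertedBy_presheafFiber' (A := AddCommGrpCat.{u + 1}) (Scheme.pointSmallEtale ξ)

theorem exists_eq_zsmul (U : X.Etale) (y : (Scheme.pointSmallEtale ξ).fiber.obj U)
    (t : (EtCoh.stalk ξ).obj (EtCoh.const X ℤ)) : ∃ n : ℤ, t = n • germ ξ U y (one U) := by
  let e : (EtCoh.stalk ξ).obj (EtCoh.const X ℤ) ≅ AddCommGrpCat.of (ULift.{u + 1} ℤ) :=
    Pts.sheafFiberConstIso _ (inverted ξ) _
  refine ⟨(e.hom t).down, e.addCommGroupIsoToAddEquiv.injective ?_⟩
  rw [map_zsmul]
  have h : e.addCommGroupIsoToAddEquiv (germ ξ U y (one U)) = (⟨1⟩ : ULift.{u + 1} ℤ) :=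
    ConcreteCategory.congr_hom (Pts.constSect_sheafFiberConstIso_hom (Scheme.pointSmallEtale ξ) (inverted ξ)
      (AddCommGrpCat.of (ULift.{u + 1} ℤ)) U y) ⟨1⟩
  rw [h]
  refine ULift.ext _ _ ?_
  show (e.hom t).down = (e.hom t).down • 1
  rw [smul_eq_mul, mul_one]

/-- the morphism out of the constant sheaf with a given value at one -/
noncomputable def constHom {G : EtCoh.Ab X} (s : G.obj.obj (op (EtCoh.top X))) : EtCoh.const X ℤ ⟶ G :=
  ⟨sheafifyLift X.smallEtaleTopology
    { app := fun V => AddCommGrpCat.ofHom ((zmultiplesHom _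
        (G.obj.map ((EtCore.topIsTerminal X).from V.unop).op s)).comp AddEquiv.ulift.toAddMonoidHom)
      naturality := fun V W g => by
        refine AddCommGrpCat.ext fun n => ?_
        show AddEquiv.ulift n • _ = G.obj.map g (AddEquiv.ulift n • _)
        rw [map_zsmul, ← Functor.map_comp_apply]
        exact congrArg (fun k => AddEquiv.ulift n • ConcreteCategory.hom (G.obj.map k) s)
          (Quiver.Hom.unop_inj ((EtCore.topIsTerminal X).hom_ext _ _)) } G.property⟩

theorem constHom_one {G : EtCoh.Ab X} (s : G.obj.obj (op (EtCoh.top X))) (U : X.Etale) :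
    (constHom s).hom.app (op U) (one U) = G.obj.map ((EtCore.topIsTerminal X).from U).op s := by
  refine (ConcreteCategory.congr_hom (congrArg (fun k : (Functor.const X.Etaleᵒᵖ).obj (AddCommGrpCat.of (ULift.{u + 1} ℤ)) ⟶ G.obj => k.app (op U))
    (CategoryTheory.toSheafify_sheafifyLift X.smallEtaleTopology _ G.property)) (⟨1⟩ : ULift.{u + 1} ℤ)).trans ?_
  exact one_zsmul _

theorem stalk_map_germ_one {G : EtCoh.Ab X} (φ : EtCoh.const X ℤ ⟶ G) (U : X.Etale)
    (y : (Scheme.pointSmallEtale ξ).fiber.obj U) :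
    (EtCoh.stalk ξ).map φ (germ ξ U y (one U)) = germ ξ U y (φ.hom.app (op U) (one U)) :=
  stalk_map_germ ξ φ U y _

end Const

section Closed

variable {Z : Scheme.{u}} (i : Z ⟶ X) [IsClosedImmersion i]

/-- the map to the skyscraper -/
noncomputable def sky : EtCoh.const X ℤ ⟶ (EtCoh.push i).obj (EtCoh.const Z ℤ) :=
  (EtCoh.pullPushAdj i).unit.app _ ≫ (EtCoh.push i).map (EtCore.pullConst i ℤ).hom

theorem bijective_stalk_sky (η : Spec (CommRingCat.of Ω) ⟶ Z) :
    Function.Bijective ((EtCoh.stalk (η ≫ i)).map (sky i)) := by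
  haveI := Groth.L27.EtSite.isIso_counit i (Groth.L27.EtSite.propA_of_isIntegralHom i)
    ((EtCoh.pull i).obj (EtCoh.const X ℤ))
  haveI : IsIso ((EtCoh.pull i).map ((EtCoh.pullPushAdj i).unit.app (EtCoh.const X ℤ))) :=
    (IsIso.eq_inv_of_inv_hom_id ((EtCoh.pullPushAdj i).left_triangle_components (EtCoh.const X ℤ))) ▸
      inferInstance
  haveI : IsIso ((EtCoh.pull i).map (sky i)) := by
    rw [sky, Functor.map_comp]
    exact IsIso.comp_isIso' ‹IsIso ((EtCoh.pull i).map ((EtCoh.pullPushAdj i).unit.app (EtCoh.const X ℤ)))›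
      inferInstance
  haveI h : IsIso ((EtCoh.pull i ⋙ EtCoh.stalk η).map (sky i)) :=
    inferInstanceAs (IsIso ((EtCoh.stalk η).map ((EtCoh.pull i).map (sky i))))
  haveI : IsIso ((EtCoh.stalk (η ≫ i)).map (sky i)) :=
    (NatIso.isIso_map_iff (Groth.L27.EtSite.stalkPullIso i η) (sky i)).1 h
  exact ConcreteCategory.bijective_of_isIso _

end Closed

/-- geometric points at a point factor through its residue field -/
theorem exists_factor (x : X) (h : ξ.base default = x) :
    ∃ η : Spec (CommRingCat.of Ω) ⟶ Spec (X.residueField x), η ≫ X.fromSpecResidueField x = ξ := by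
  subst h
  obtain ⟨⟨z, f⟩, rfl⟩ := (Scheme.SpecToEquivOfField Ω X).symm.surjective ξ
  refine ⟨Spec.map ((X.residueFieldCongr (by simp [Scheme.SpecToEquivOfField])).hom ≫ f), ?_⟩
  rw [Spec.map_comp, Category.assoc, Scheme.residueFieldCongr_fromSpecResidueField]
  rfl

/-- stalks of sums are generated by the summands -/
theorem eq_zero_of_cofan {ι : Type u} {F : ι → EtCoh.Ab X} {c : Cofan F} (hc : IsColimit c)
    {G : AddCommGrpCat.{u + 1}} (m : (EtCoh.stalk ξ).obj c.pt ⟶ G)
    (h : ∀ i, (EtCoh.stalk ξ).map (c.inj i) ≫ m = 0) : m = 0 :=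
  (isColimitOfPreserves (EtCoh.stalk ξ) hc).hom_ext fun ⟨i⟩ => (h i).trans comp_zero.symm

/-- the range of a single summand -/
theorem mem_range_of_cofan {ι : Type u} {F : ι → EtCoh.Ab X} {c : Cofan F} (hc : IsColimit c)
    (H : AddSubgroup ((EtCoh.stalk ξ).obj c.pt))
    (h : ∀ i z, (EtCoh.stalk ξ).map (c.inj i) z ∈ H) (z : (EtCoh.stalk ξ).obj c.pt) : z ∈ H := by
  have e : AddCommGrpCat.ofHom (QuotientAddGroup.mk' H) = 0 := eq_zero_of_cofan ξ hc _ fun i =>
    AddCommGrpCat.ext fun w => (QuotientAddGroup.eq_zero_iff _).2 (h i w)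
  exact (QuotientAddGroup.eq_zero_iff _).1 (ConcreteCategory.congr_hom e z)

end Groth.L28.Sky
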