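import Groth.Agent.L21.Smooth.Scheme
import Groth.Agent.L21.Curve.DVR
import Mathlib.AlgebraicGeometry.Noetherian

/-!
Uniformising charts at closed points of a smooth curve.
-/

set_option autoImplicit false
set_option linter.style.haveILetI false
set_option linter.unusedSectionVars false
set_option backward.isDefEq.respectTransparency.types false

universe u

open CategoryTheory CategoryTheory.Limits AlgebraicGeometry IsLocalRing

namespace Groth.L28.Divisor

variable {k : Type u} [Field k] {X : Scheme.{u}} (f : X ⟶ Spec (CommRingCat.of k)) [Smooth f]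
  [AlgebraicGeometry.IsIntegral X] (hdim : topologicalKrullDim X = 1)

include f hdim in
theorem exists_chart [IsLocallyNoetherian X] (x : X) (hx : IsClosed ({x} : Set X)) :
    ∃ (U : X.Opens) (_ : IsAffineOpen U) (hxU : x ∈ U) (t : Γ(X, U)), t ≠ 0 ∧
      maximalIdeal (X.presheaf.stalk x) = Ideal.span {X.presheaf.germ U x hxU t} ∧
      ∀ (z : X) (hz : z ∈ U), z ≠ x → IsUnit (X.presheaf.germ U z hz t) := by
  haveI := Groth.L21.Curve.isDVR_stalk_closed hdim (fun y =>
    ⟨Groth.L21.Smooth.isDomain_stalk f y, Groth.L21.Smooth.isIntegrallyClosed_stalk f y⟩) hx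
  obtain ⟨π, hπ⟩ := IsDiscreteValuationRing.exists_irreducible (X.presheaf.stalk x)
  obtain ⟨W, hxW, a₀, ha₀⟩ := X.presheaf.exists_germ_eq π
  obtain ⟨V, hV, hxV, hVW⟩ := exists_isAffineOpen_mem_and_subset (x := x) (U := W) hxW
  let A := Γ(X, V)
  let a : A := X.presheaf.map (homOfLE hVW).op a₀
  haveI : IsNoetherianRing A := IsLocallyNoetherian.component_noetherian ⟨V, hV⟩
  letI := X.presheaf.algebra_section_stalk ⟨x, hxV⟩
  let p := (hV.primeIdealOf ⟨x, hxV⟩).asIdeal
  haveI := hV.isLocalization_stalk ⟨x, hxV⟩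
  have hmax : maximalIdeal (X.presheaf.stalk x) = Ideal.span {algebraMap A (X.presheaf.stalk x) a} := by
    rw [hπ.maximalIdeal_eq]
    congr 2
    exact ha₀.symm.trans (X.presheaf.germ_res_apply (homOfLE hVW) x hxV a₀).symm
  have hb : ∀ b ∈ p, ∃ c : A, c ∉ p ∧ c * b ∈ Ideal.span {a} := by
    intro b hb
    have h1 : algebraMap A (X.presheaf.stalk x) b ∈ (Ideal.span {a}).map (algebraMap A (X.presheaf.stalk x)) := by
      rw [Ideal.map_span, Set.image_singleton, ← hmax,
        ← IsLocalization.AtPrime.map_eq_maximalIdeal p (X.presheaf.stalk x)]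
      exact Ideal.mem_map_of_mem _ hb
    obtain ⟨⟨⟨y, hy⟩, ⟨m, hm⟩⟩, h2⟩ := (IsLocalization.mem_map_algebraMap_iff p.primeCompl _).1 h1
    rw [← map_mul] at h2
    obtain ⟨⟨d, hd⟩, h3⟩ := (IsLocalization.eq_iff_exists p.primeCompl (X.presheaf.stalk x)).1 h2
    refine ⟨d * m, p.primeCompl.mul_mem hd hm, ?_⟩
    rw [mul_assoc, mul_comm m b]
    exact h3 ▸ Ideal.mul_mem_left _ _ hy
  choose! c hc hcb using hb
  obtain ⟨G, hG⟩ := IsNoetherian.noetherian p
  have hGp : ∀ g ∈ G, g ∈ p := fun g hg => hG ▸ Submodule.subset_span hg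
  let C := ∏ g ∈ G, c g
  have hC : C ∉ p := fun h => by
    obtain ⟨g, hg, hgp⟩ := (hV.primeIdealOf ⟨x, hxV⟩).isPrime.prod_mem_iff.1 h
    exact hc g (hGp g hg) hgp
  have hCp : ∀ b ∈ p, C * b ∈ Ideal.span {a} := by
    intro b hb
    rw [← hG] at hb
    induction hb using Submodule.span_induction with
    | mem g hg =>
      obtain ⟨d, hd⟩ := Finset.dvd_prod_of_mem c hg
      show (∏ g ∈ G, c g) * g ∈ _
      rw [hd, mul_comm (c g), mul_assoc]
      exact Ideal.mul_mem_left _ _ (hcb g (hGp g hg))
    | zero => rw [mul_zero]; exact Ideal.zero_mem _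
    | add u w _ _ hu hw => rw [mul_add]; exact Ideal.add_mem _ hu hw
    | smul r u _ hu => rw [smul_eq_mul, ← mul_assoc, mul_comm C r, mul_assoc]; exact Ideal.mul_mem_left _ _ hu
  let U := X.basicOpen C
  have hxU : x ∈ U := (X.mem_basicOpen C x hxV).2
    ((IsLocalization.AtPrime.isUnit_to_map_iff (X.presheaf.stalk x) p C).2 hC)
  let t := X.presheaf.map (homOfLE (X.basicOpen_le C)).op a
  have hgx : X.presheaf.germ U x hxU t = algebraMap A (X.presheaf.stalk x) a := X.presheaf.germ_res_apply _ _ _ _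
  refine ⟨U, hV.basicOpen C, hxU, t, fun h0 => ?_, by rw [hgx]; exact hmax, fun z hz hzx => ?_⟩
  · apply IsDiscreteValuationRing.not_a_field (X.presheaf.stalk x)
    rw [hmax, ← hgx, h0, map_zero, Ideal.span_singleton_eq_bot]
  · rw [X.presheaf.germ_res_apply]
    by_contra hnu
    have hzV : z ∈ V := X.basicOpen_le C hz
    letI := X.presheaf.algebra_section_stalk ⟨z, hzV⟩
    let q := hV.primeIdealOf ⟨z, hzV⟩
    haveI := hV.isLocalization_stalk ⟨z, hzV⟩
    have ha : a ∈ q.asIdeal := by
      by_contra h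
      exact hnu ((IsLocalization.AtPrime.isUnit_to_map_iff (X.presheaf.stalk z) q.asIdeal a).2 h)
    have hCq : C ∉ q.asIdeal :=
      (IsLocalization.AtPrime.isUnit_to_map_iff (X.presheaf.stalk z) q.asIdeal C).1 ((X.mem_basicOpen C z hzV).1 hz)
    have hle : p ≤ q.asIdeal := fun b hb =>
      (q.isPrime.mem_or_mem ((Ideal.span_singleton_le_iff_mem _).2 ha (hCp b hb))).resolve_left hCq
    have hs : x ⤳ z := by
      have := ((PrimeSpectrum.le_iff_specializes (hV.primeIdealOf ⟨x, hxV⟩) q).1 hle).map hV.fromSpec.continuous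
      rwa [hV.fromSpec_primeIdealOf, hV.fromSpec_primeIdealOf] at this
    exact hzx (hs.mem_closed hx rfl)

include hdim in
theorem eq_generic_or_closed (x : X) : x = genericPoint X ∨ IsClosed ({x} : Set X) :=
  by
  rcases em (x = genericPoint X) with h | h
  · exact Or.inl h
  refine Or.inr (isClosed_of_closure_subset fun z hz => ?_)
  by_contra hzx
  let c : X → TopologicalSpace.IrreducibleCloseds X := fun a => ⟨closure {a}, isIrreducible_singleton.closure, isClosed_closure⟩
  have hlt : ∀ a b : X, a ⤳ b → a ≠ b → c b < c a := fun a b hs hab => by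
    refine lt_of_le_of_ne ?_ fun e => ?_
    · exact (specializes_iff_closure_subset.1 hs : closure {b} ⊆ closure {a})
    · exact hab (hs.antisymm (specializes_iff_mem_closure.2
        (show a ∈ closure ({b} : Set X) from (show closure ({b} : Set X) = closure {a} from
          congrArg TopologicalSpace.IrreducibleCloseds.carrier e).symm ▸ subset_closure rfl))).eq
  have hlen := Order.LTSeries.length_le_krullDim
    ((RelSeries.singleton _ (c z)).snoc (c x) (hlt x z (specializes_iff_mem_closure.2 hz) fun e => hzx e.symm)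
      |>.snoc (c (genericPoint X)) (by
        rw [RelSeries.last_snoc]
        exact hlt _ x ((genericPoint_spec X).specializes trivial) (Ne.symm h)))
  have h2le : ((2 : ℕ) : WithBot ℕ∞) ≤ 1 := le_trans (le_trans (by simp) hlen) hdim.le
  norm_cast at h2le

end Groth.L28.Divisor
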