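import Groth.Agent.L28.Divisor.Sheaf
import Groth.Agent.L28.Divisor.Sky
import Groth.Agent.L28.Divisor.Chart

/-!
The divisor sequence of a smooth curve.
-/

set_option autoImplicit false
set_option linter.style.haveILetI false
set_option linter.unusedSectionVars false
set_option backward.isDefEq.respectTransparency.types false

universe u

open CategoryTheory CategoryTheory.Limits AlgebraicGeometry Opposite IsLocalRing
open Groth.L27.MV (oE oTop oHom)
open Groth.L28.Sky

namespace Groth.L28.Divisor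

variable {X : Scheme.{u}} [AlgebraicGeometry.IsIntegral X]

/-- the sheaf of divisors as a cokernel -/
noncomputable abbrev Q (X : Scheme.{u}) [IrreducibleSpace X] : EtCoh.Ab X := cokernel (φ X)

/-- the projection -/
noncomputable abbrev proj (X : Scheme.{u}) [IrreducibleSpace X] : P X ⟶ Q X := cokernel.π (φ X)

theorem mono_φ : Mono (φ X) := by
  haveI : Sheaf.IsLocallyInjective (φ X) := by
    refine Presheaf.isLocallyInjective_of_injective _ _ fun V => ?_
    refine (injective_iff_map_eq_zero _).2 fun s hs => Groth.L27.EtSite.ext_of_locally _ fun v => ?_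
    obtain ⟨V', g, v', hv, h⟩ := exists_map_eq_zero V.unop s hs v
    exact ⟨V', g, v', hv, h.trans (map_zero _).symm⟩
  exact Sheaf.mono_of_isLocallyInjective (φ X)

theorem proj_φ (V : X.Etale) (c : (EtCoh.Gm X).obj.obj (op V)) :
    (proj X).hom.app (op V) ((φ X).hom.app (op V) c) = 0 :=
  ConcreteCategory.congr_hom (congrArg (fun k : EtCoh.Gm X ⟶ Q X => k.hom.app (op V)) (cokernel.condition (φ X))) c

/-- a lift of an étale scheme into an open subscheme -/
theorem exists_to_oE (V : X.Etale) {U : X.Opens} (h : ⊤ ≤ (V.hom : V.left ⟶ X) ⁻¹ᵁ U) : Nonempty (V ⟶ oE U) := by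
  have hι : IsOpenImmersion U.ι := inferInstance
  let v : V.left ⟶ X := V.hom
  have hr : Set.range v ⊆ Set.range U.ι := by
    rintro _ ⟨z, rfl⟩
    exact U.range_ι.ge (h trivial)
  exact ⟨MorphismProperty.Over.homMk (@IsOpenImmersion.lift _ _ _ U.ι v hι hr) (@IsOpenImmersion.lift_fac _ _ _ U.ι v hι hr)⟩

/-- uniformising charts -/
structure Chart (x : X) where
  U : X.Opens
  hU : IsAffineOpen U
  hxU : x ∈ U
  t : Γ(X, U)
  ht : t ≠ 0
  hmax : maximalIdeal (X.presheaf.stalk x) = Ideal.span {X.presheaf.germ U x hxU t}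
  hunit : ∀ (z : X) (hz : z ∈ U), z ≠ x → IsUnit (X.presheaf.germ U z hz t)

variable {x : X} (C : Chart x)

theorem Chart.hres : IsUnit (res (X := X) (W := (oE C.U).left) (oE C.U).hom
    (str (X := X) (W := (oE C.U).left) (oE C.U).hom (C.U.ι_preimage_self).ge C.t)) := by
  haveI : IsAffine (C.U : Scheme.{u}) := C.hU
  haveI : Nonempty C.U := ⟨⟨x, C.hxU⟩⟩
  exact (exists_frac C.hU C.U.ι _).2.2 C.t C.ht

/-- the uniformiser -/
noncomputable def Chart.τ : (P X).obj.obj (op (oE C.U)) := tη C.t C.hres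

theorem exists_glob (hx : IsClosed ({x} : Set X)) : ∃ s : (Q X).obj.obj (op (EtCoh.top X)),
    (Q X).obj.map (oTop C.U).op s = (proj X).hom.app (op (oE C.U)) C.τ ∧
    (Q X).obj.map (oTop (⟨{x}ᶜ, hx.isOpen_compl⟩ : X.Opens)).op s = 0 := by
  let Vx : X.Opens := ⟨{x}ᶜ, hx.isOpen_compl⟩
  have hUV : C.U ⊔ Vx = ⊤ := by
    refine top_le_iff.1 fun z _ => ?_
    rcases em (z = x) with h | h
    · exact Or.inl (h ▸ C.hxU)
    · exact Or.inr h
  refine (Groth.L27.MV.exists_glue C.U Vx hUV (Q X) _ 0 ?_).exists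
  let W := C.U ⊓ Vx
  let a : oE W ⟶ oE C.U := oHom inf_le_left
  have hW : ⊤ ≤ ((oE W).hom : (oE W).left ⟶ X) ⁻¹ᵁ C.U := fun z _ => (inf_le_left : W ≤ C.U) z.2
  have hu : IsUnit (str (X := X) (W := (oE W).left) (oE W).hom hW C.t) := by
    have h1 : IsUnit (X.presheaf.map (homOfLE (inf_le_left : W ≤ C.U)).op C.t) :=
      X.toRingedSpace.isUnit_of_isUnit_germ W _ fun z hz => by
        show IsUnit (X.presheaf.germ W z hz _)
        rw [X.presheaf.germ_res_apply]
        exact C.hunit z hz.1 hz.2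
    have h2 := h1.map (W.ι.appLE W ⊤ W.ι_preimage_self.ge).hom
    rw [← ConcreteCategory.comp_apply (X.presheaf.map _), Scheme.Hom.map_appLE] at h2
    exact h2
  have e : (P X).obj.map a.op C.τ = (φ X).hom.app (op (oE W)) (mkU (W := (oE W).left) hu.unit) := by
    refine val_inj ((val_map_tη C.t C.hres a hW).trans ?_)
    exact ((val_φ (V := oE W) (mkU (W := (oE W).left) hu.unit)).trans (congrArg _ hu.unit_spec)).symm
  rw [map_zero, ← NatTrans.naturality_apply (proj X).hom a.op C.τ, e, proj_φ]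

/-- the global section of the cokernel at a closed point -/
noncomputable def glob (hx : IsClosed ({x} : Set X)) : (Q X).obj.obj (op (EtCoh.top X)) :=
  (exists_glob C hx).choose

/-- the map of the constant sheaf to the cokernel -/
noncomputable def qmap (hx : IsClosed ({x} : Set X)) : EtCoh.const X ℤ ⟶ Q X := constHom (glob C hx)

variable {Ω : Type u} [Field Ω] [IsSepClosed Ω] (ξ : Spec (CommRingCat.of Ω) ⟶ X)

/-- the point of the fibre over the terminal object -/
noncomputable def topPt : (Scheme.pointSmallEtale ξ).fiber.obj (EtCoh.top X) := Over.homMk ξ (Category.comp_id _)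

theorem fiber_top_ext (a b : (Scheme.pointSmallEtale ξ).fiber.obj (EtCoh.top X)) : a = b :=
  Over.OverMorphism.ext (((Category.comp_id _).symm.trans (Over.w a)).trans
    ((Category.comp_id _).symm.trans (Over.w b)).symm)

/-- the stalk of the unit section -/
noncomputable abbrev onePt : (EtCoh.stalk ξ).obj (EtCoh.const X ℤ) := germ ξ (EtCoh.top X) (topPt ξ) (one _)

theorem stalk_qmap_one (hx : IsClosed ({x} : Set X)) (V : X.Etale) (y : (Scheme.pointSmallEtale ξ).fiber.obj V)
    (e : V ⟶ oE C.U) :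
    (EtCoh.stalk ξ).map (qmap C hx) (onePt ξ) = germ ξ V y ((proj X).hom.app (op V) ((P X).obj.map e.op C.τ)) := by
  rw [onePt, stalk_map_germ, qmap, constHom_one]
  have h1 : (proj X).hom.app (op V) ((P X).obj.map e.op C.τ) =
      (Q X).obj.map e.op ((Q X).obj.map (oTop C.U).op (glob C hx)) :=
    (NatTrans.naturality_apply (proj X).hom e.op C.τ).trans
      (congrArg ((Q X).obj.map e.op) (exists_glob C hx).choose_spec.1.symm)
  rw [h1, ← Functor.map_comp_apply, ← op_comp, germ_res, germ_res]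
  exact congrArg (fun a => germ ξ (EtCoh.top X) a (glob C hx)) (fiber_top_ext ξ _ _)

theorem stalk_qmap_eq_zero (hx : IsClosed ({x} : Set X)) (hξ : ξ.base default ≠ x)
    (z : (EtCoh.stalk ξ).obj (EtCoh.const X ℤ)) : (EtCoh.stalk ξ).map (qmap C hx) z = 0 := by
  let Vx : X.Opens := ⟨{x}ᶜ, hx.isOpen_compl⟩
  have hw : (oTop Vx).left = Vx.ι := (Category.comp_id _).symm.trans (MorphismProperty.Over.w (oTop Vx))
  haveI : IsOpenImmersion (oTop Vx).left := by rw [hw]; exact inferInstanceAs (IsOpenImmersion Vx.ι)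
  obtain ⟨y', hy', -⟩ := exists_fiber_lift ξ (oTop Vx) (topPt ξ) ⟨ξ.base default, hξ⟩ (by
    rw [hw]
    rfl)
  obtain ⟨n, rfl⟩ := exists_eq_zsmul ξ (oE Vx) y' z
  rw [map_zsmul, stalk_map_germ, qmap, constHom_one,
    (EtCore.topIsTerminal X).hom_ext ((EtCore.topIsTerminal X).from (oE Vx)) (oTop Vx), glob, (exists_glob C hx).choose_spec.2]
  rw [show germ ξ (oE Vx) y' (0 : (Q X).obj.obj (op (oE Vx))) = 0 from map_zero _, smul_zero]

/-- the skyscraper map -/
noncomputable abbrev skyx (x : X) : EtCoh.const X ℤ ⟶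
    (EtCoh.push (X.fromSpecResidueField x)).obj (EtCoh.const (Spec (X.residueField x)) ℤ) :=
  Sky.sky (X := X) (X.fromSpecResidueField x)

variable (hx : IsClosed ({x} : Set X))

include hx in
theorem bijective_skyx (h : ξ.base default = x) [IsClosedImmersion (X.fromSpecResidueField x)] :
    Function.Bijective ((EtCoh.stalk ξ).map (skyx x)) := by
  obtain ⟨η, rfl⟩ := exists_factor ξ x h
  exact bijective_stalk_sky _ η

theorem isZero_stalk_skyx {y : X} [IsClosedImmersion (X.fromSpecResidueField y)] (h : ξ.base default ≠ y) :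
    IsZero ((EtCoh.stalk ξ).obj ((EtCoh.push (X.fromSpecResidueField y)).obj (EtCoh.const _ ℤ))) :=
  Groth.L27.EtSite.isZero_stalk_push _ _ ξ (by rw [Scheme.range_fromSpecResidueField]; exact h)

include hx in
theorem epi_skyx : Epi (skyx x) := by
  haveI : IsClosedImmersion (X.fromSpecResidueField x) := isClosed_singleton_iff_isClosedImmersion.1 hx
  refine (Groth.L27.EtSite.epi_iff_stalks _).2 fun Ω _ _ ξ => ?_
  rcases em (ξ.base default = x) with h | h
  · exact (bijective_skyx ξ hx h).2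
  · intro z
    exact ⟨0, (AddCommGrpCat.subsingleton_of_isZero (isZero_stalk_skyx ξ h)).elim _ _⟩

theorem exists_desc : ∃ q, skyx x ≫ q = qmap C hx := by
  haveI : IsClosedImmersion (X.fromSpecResidueField x) := isClosed_singleton_iff_isClosedImmersion.1 hx
  haveI := epi_skyx hx
  refine ⟨Abelian.epiDesc (skyx x) (qmap C hx) ?_, Abelian.comp_epiDesc _ _ _⟩
  refine Sheaf.hom_ext (NatTrans.ext (funext fun V => ConcreteCategory.hom_ext _ _ fun w => ?_))
  refine eq_zero_of_germs _ fun Ω _ _ ξ y => ?_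
  show germ ξ V.unop y ((kernel.ι (skyx x) ≫ qmap C hx).hom.app V w) = 0
  rw [← stalk_map_germ, Functor.map_comp, ConcreteCategory.comp_apply]
  rcases em (ξ.base default = x) with h | h
  · have h0 : (EtCoh.stalk ξ).map (kernel.ι (skyx x)) (germ ξ V.unop y w) = 0 := by
      refine (bijective_skyx ξ hx h).1 ?_
      rw [← ConcreteCategory.comp_apply, ← Functor.map_comp, kernel.condition, Functor.map_zero, map_zero]
      rfl
    rw [h0, map_zero]
  · exact stalk_qmap_eq_zero C ξ hx h _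

variable {k : Type u} [Field k] (f : X ⟶ Spec (CommRingCat.of k)) [Smooth f] (hdim : topologicalKrullDim X = 1)

include hdim in
/-- surjectivity -/
theorem epi_of_fac [IsLocallyNoetherian X]
    {c : Cofan fun x : {x : ↥X // IsClosed ({x} : Set ↥X)} =>
      (EtCoh.push (X.fromSpecResidueField x.1)).obj (EtCoh.const (Spec (X.residueField x.1)) ℤ)}
    (C : ∀ x : {x : ↥X // IsClosed ({x} : Set ↥X)}, Chart x.1) (ψ : c.pt ⟶ Q X)
    (hψ : ∀ x : {x : ↥X // IsClosed ({x} : Set ↥X)}, (skyx x.1 ≫ c.inj x) ≫ ψ = qmap (C x) x.2) :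
    Epi ψ := by
  refine (Groth.L27.EtSite.epi_iff_stalks _).2 fun Ω _ _ ξ z => ?_
  haveI : Epi (proj X) := inferInstanceAs (Epi (cokernel.π (φ X)))
  obtain ⟨z', rfl⟩ := (Groth.L27.EtSite.epi_iff_stalks (proj X)).1 inferInstance Ω ξ z
  obtain ⟨V, y, s, rfl⟩ := (Scheme.pointSmallEtale ξ).toPresheafFiber_jointly_surjective z'
  show ∃ a, _ = (EtCoh.stalk ξ).map (proj X) (germ ξ V y s)
  rcases eq_generic_or_closed hdim (ξ.base default) with hgen | hcl
  · obtain ⟨_, ⟨(U₀ : X.Opens), hU₀, rfl⟩, hxU₀, -⟩ :=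
      X.isBasis_affineOpens.exists_subset_of_mem_open (Set.mem_univ (ξ.base default)) isOpen_univ
    have hv : V.hom (y.left.base (default : Spec (CommRingCat.of Ω))) = ξ.base default :=
      Groth.L27.EtSite.fiber_apply y
    have ht0 : maximalIdeal (X.presheaf.stalk (genericPoint X)) =
        Ideal.span {X.presheaf.germ U₀ (genericPoint X) (hgen ▸ hxU₀) 0} := by
      rw [map_zero, Ideal.span_singleton_eq_bot.2 rfl]
      exact maximalIdeal_eq_bot (R := X.functionField)
    obtain ⟨V', g, v', c', n, m, hv', hg, h0, heq, -⟩ := exists_decomp hU₀ 0 V (y.left.base (default : Spec (CommRingCat.of Ω)))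
      (hv.symm ▸ hxU₀) (span_congr 0 (hv.trans hgen).symm _ _ ht0) s
    obtain ⟨y', rfl, -⟩ := exists_fiber_lift ξ g y v' hv'
    refine ⟨0, ?_⟩
    obtain ⟨hn, hm⟩ := h0 (map_zero _)
    rw [← germ_res ξ g y' s, heq hn hm, stalk_map_germ, proj_φ, map_zero]
    exact (map_zero _).symm
  · let x : {x : ↥X // IsClosed ({x} : Set ↥X)} := ⟨ξ.base default, hcl⟩
    have hv : V.hom (y.left.base (default : Spec (CommRingCat.of Ω))) = ξ.base default :=
      Groth.L27.EtSite.fiber_apply y
    obtain ⟨V₀, g₀, v₀, -, hgv₀, hV₀, -, hg₀⟩ := exists_nbhd V (y.left.base (default : Spec (CommRingCat.of Ω))) (U := (C x).U)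
      (hv.symm ▸ (C x).hxU) ⊤ trivial
    obtain ⟨e₀⟩ := exists_to_oE V₀ hV₀
    obtain ⟨y₀, rfl, hy₀⟩ := exists_fiber_lift ξ g₀ y v₀ hgv₀
    have hv₀ : V₀.hom (y₀.left.base (default : Spec (CommRingCat.of Ω))) = ξ.base default :=
      Groth.L27.EtSite.fiber_apply y₀
    obtain ⟨V', g, v', c', n, m, hv', hg, -, -, heq⟩ := exists_decomp (C x).hU (C x).t V₀
      (y₀.left.base (default : Spec (CommRingCat.of Ω))) (hv₀.symm ▸ (C x).hxU) (span_congr _ hv₀.symm _ _ (C x).hmax)
      ((P X).obj.map g₀.op s)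
    obtain ⟨y', rfl, -⟩ := exists_fiber_lift ξ g y₀ v' hv'
    refine ⟨((n : ℤ) - m) • (EtCoh.stalk ξ).map (skyx x.1 ≫ c.inj x) (onePt ξ), ?_⟩
    rw [map_zsmul, ← ConcreteCategory.comp_apply, ← Functor.map_comp, hψ,
      stalk_qmap_one (C x) ξ x.2 V' y' (g ≫ e₀), ← germ_res ξ g₀ _ s, ← germ_res ξ g y' _, stalk_map_germ]
    show ((n : ℤ) - m) • (Scheme.pointSmallEtale ξ).toPresheafFiber V' y' (Q X).obj _ = _
    rw [← map_zsmul]
    refine congrArg _ ?_
    have h := congrArg ((proj X).hom.app (op V')) (heq (C x).hres (g ≫ e₀))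
    rw [map_add, map_add, map_nsmul, map_nsmul, proj_φ, zero_add, ← eq_sub_iff_add_eq] at h
    rw [h, sub_smul, natCast_zsmul, natCast_zsmul]
    rfl

include hdim in
/-- injectivity -/
theorem mono_of_fac
    {c : Cofan fun x : {x : ↥X // IsClosed ({x} : Set ↥X)} =>
      (EtCoh.push (X.fromSpecResidueField x.1)).obj (EtCoh.const (Spec (X.residueField x.1)) ℤ)}
    (C : ∀ x : {x : ↥X // IsClosed ({x} : Set ↥X)}, Chart x.1) (ψ : c.pt ⟶ Q X)
    (hψ : ∀ x : {x : ↥X // IsClosed ({x} : Set ↥X)}, (skyx x.1 ≫ c.inj x) ≫ ψ = qmap (C x) x.2)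
    (hc : IsColimit c) : Mono ψ := by
  haveI hci : ∀ x : {x : ↥X // IsClosed ({x} : Set ↥X)}, IsClosedImmersion (X.fromSpecResidueField x.1) :=
    fun x => isClosed_singleton_iff_isClosedImmersion.1 x.2
  refine (Groth.L27.EtSite.mono_iff_stalks _).2 fun Ω _ _ ξ => (injective_iff_map_eq_zero _).2 fun w hw => ?_
  rcases eq_generic_or_closed hdim (ξ.base default) with hgen | hcl
  · refine (AddSubgroup.mem_bot).1 (mem_range_of_cofan ξ hc ⊥ (fun x z => ?_) w)
    have hne : ξ.base default ≠ x.1 := fun h =>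
      Groth.L21.Curve.ne_genericPoint hdim x.2 (h.symm.trans hgen)
    rw [(AddCommGrpCat.subsingleton_of_isZero (isZero_stalk_skyx ξ hne)).elim z 0, map_zero]
    exact zero_mem _
  · let x : {x : ↥X // IsClosed ({x} : Set ↥X)} := ⟨ξ.base default, hcl⟩
    let w₀ := (EtCoh.stalk ξ).map (skyx x.1 ≫ c.inj x) (onePt ξ)
    obtain ⟨n, rfl⟩ := AddSubgroup.mem_zmultiples_iff.1 (mem_range_of_cofan ξ hc (AddSubgroup.zmultiples w₀)
      (fun x' z => by
        rcases em (x' = x) with rfl | hne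
        · obtain ⟨z, rfl⟩ := (bijective_skyx ξ x.2 rfl).2 z
          obtain ⟨n, rfl⟩ := exists_eq_zsmul ξ (EtCoh.top X) (topPt ξ) z
          rw [map_zsmul, map_zsmul, ← ConcreteCategory.comp_apply, ← Functor.map_comp]
          exact AddSubgroup.zsmul_mem_zmultiples _ n
        · rw [(AddCommGrpCat.subsingleton_of_isZero (isZero_stalk_skyx ξ
            (fun h => hne (Subtype.ext h.symm)))).elim z 0, map_zero]
          exact zero_mem _) w)
    rw [map_zsmul, ← ConcreteCategory.comp_apply, ← Functor.map_comp, hψ] at hw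
    suffices n = 0 by rw [this, zero_smul]
    obtain ⟨yU, -⟩ := Groth.L27.EtSite.exists_fiber ξ (oE (C x).U) ⟨x.1, (C x).hxU⟩ rfl
    rw [stalk_qmap_one (C x) ξ x.2 (oE (C x).U) yU (𝟙 _), op_id, Functor.map_id_apply,
      ← stalk_map_germ] at hw
    let m := n.natAbs
    have hm : (EtCoh.stalk ξ).map (proj X) (m • germ ξ (oE (C x).U) yU (C x).τ) = 0 := by
      rw [map_nsmul, ← natCast_zsmul]
      rcases n.natAbs_eq with e | e
      · rw [← e]; exact hw
      · rw [show (m : ℤ) = -n by omega, neg_smul, hw, neg_zero]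
    have hS : (ShortComplex.mk (φ X) (proj X) (cokernel.condition _)).Exact :=
      ShortComplex.exact_of_g_is_cokernel _ (cokernelIsCokernel _)
    obtain ⟨a, ha⟩ := (ShortComplex.ab_exact_iff _).1 (hS.map (EtCoh.stalk ξ)) _ hm
    obtain ⟨W, yW, c₀, rfl⟩ := (Scheme.pointSmallEtale ξ).toPresheafFiber_jointly_surjective a
    obtain ⟨⟨V', y'⟩, ⟨i, hi⟩, ⟨j, hj⟩, -⟩ := IsCofilteredOrEmpty.cone_objs
      ((Scheme.pointSmallEtale ξ).fiber.elementsMk (oE (C x).U) yU)
      ((Scheme.pointSmallEtale ξ).fiber.elementsMk W yW)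
    have hi' : (Scheme.pointSmallEtale ξ).fiber.map i y' = yU := hi
    have hj' : (Scheme.pointSmallEtale ξ).fiber.map j y' = yW := hj
    have e : germ ξ V' y' (m • (P X).obj.map i.op (C x).τ) =
        germ ξ V' y' ((φ X).hom.app (op V') ((EtCoh.Gm X).obj.map j.op c₀)) := by
      rw [NatTrans.naturality_apply, germ_res, hj']
      refine Eq.trans ?_ ((ha.symm.trans (stalk_map_germ ξ (φ X) W yW c₀)))
      show (Scheme.pointSmallEtale ξ).toPresheafFiber V' y' (P X).obj _ = _
      rw [map_nsmul]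
      show m • germ ξ V' y' _ = _
      rw [germ_res, hi']
    obtain ⟨V'', a', y'', hy'', he⟩ := ((Scheme.pointSmallEtale ξ).toPresheafFiber_eq_iff' _ _ _ _).1 e
    have hv'' : V''.hom (y''.left.base (default : Spec (CommRingCat.of Ω))) = ξ.base default :=
      Groth.L27.EtSite.fiber_apply y''
    rw [map_nsmul, ← Functor.map_comp_apply, ← op_comp, ← NatTrans.naturality_apply] at he
    have h0 := eq_zero_of_nsmul (C x).hU (C x).t (C x).hres V'' (y''.left.base (default : Spec (CommRingCat.of Ω))) (a' ≫ i)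
      (germ_mem_congr _ hv''.symm (C x).hxU _ ((C x).hmax ▸ Ideal.mem_span_singleton_self _)) m _ he
    exact Int.natAbs_eq_zero.1 h0

include f hdim in
/-- the cokernel is the sum of the skyscrapers -/
theorem nonempty_iso [IsLocallyNoetherian X]
    (c : Cofan fun x : {x : ↥X // IsClosed ({x} : Set ↥X)} =>
      (EtCoh.push (X.fromSpecResidueField x.1)).obj (EtCoh.const (Spec (X.residueField x.1)) ℤ))
    (hc : IsColimit c) : Nonempty (Q X ≅ c.pt) := by
  choose U hU hxU t ht hmax hunit using fun x : {x : ↥X // IsClosed ({x} : Set ↥X)} => exists_chart f hdim x.1 x.2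
  let C : ∀ x : {x : ↥X // IsClosed ({x} : Set ↥X)}, Chart x.1 := fun x =>
    ⟨U x, hU x, hxU x, t x, ht x, hmax x, hunit x⟩
  choose q hq using fun x => exists_desc (C x) x.2
  have hψ : ∀ x : {x : ↥X // IsClosed ({x} : Set ↥X)}, (skyx x.1 ≫ c.inj x) ≫ Cofan.IsColimit.desc hc q = qmap (C x) x.2 := fun x => by
    rw [Category.assoc, Cofan.IsColimit.fac, hq]
  haveI := epi_of_fac hdim C _ hψ
  haveI := mono_of_fac hdim C _ hψ hc
  exact ⟨(@asIso _ _ _ _ (Cofan.IsColimit.desc hc q) (isIso_of_mono_of_epi _)).symm⟩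

end Groth.L28.Divisor
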