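import Groth.Agent.L28.Divisor.Local
import Groth.Agent.L27.EtSite.Points
import Groth.Agent.L27.MV.SES
import Groth.Prelude.Def_EtLim

/-!
Sections of the direct image of the multiplicative group from the generic point.
-/

set_option autoImplicit false
set_option linter.style.haveILetI false
set_option linter.unusedSectionVars false
set_option backward.isDefEq.respectTransparency.types false

universe u

open CategoryTheory CategoryTheory.Limits AlgebraicGeometry Opposite IsLocalRing

namespace Groth.L28.Divisor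

/-- a unit as a section -/
def mkU {W : Scheme.{u}} (x : Γ(W, ⊤)ˣ) : EtCoh.ΓUnits.obj (op W) := ULift.up (Additive.ofMul x)

/-- the function underlying a section of units -/
def val {W : Scheme.{u}} (s : EtCoh.ΓUnits.obj (op W)) : Γ(W, ⊤) :=
  ((Additive.toMul (ULift.down s) : Γ(W, ⊤)ˣ) : Γ(W, ⊤))

theorem val_inj {W : Scheme.{u}} {s t : EtCoh.ΓUnits.obj (op W)} (h : val s = val t) : s = t :=
  ULift.ext _ _ (Additive.toMul.injective (Units.ext h))

theorem val_mkU {W : Scheme.{u}} (x : Γ(W, ⊤)ˣ) : val (mkU x) = x := rfl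

theorem val_map {W W' : Scheme.{u}} (g : W' ⟶ W) (s : EtCoh.ΓUnits.obj (op W)) :
    val (EtCoh.ΓUnits.map g.op s) = g.appTop (val s) := rfl

theorem val_add {W : Scheme.{u}} (s t : EtCoh.ΓUnits.obj (op W)) : val (s + t) = val s * val t := rfl

theorem val_zero {W : Scheme.{u}} : val (0 : EtCoh.ΓUnits.obj (op W)) = 1 := rfl

theorem val_nsmul {W : Scheme.{u}} (n : ℕ) (s : EtCoh.ΓUnits.obj (op W)) : val (n • s) = val s ^ n := by
  induction n with
  | zero => rw [zero_smul, pow_zero]; rfl
  | succ n ih => rw [succ_nsmul, val_add, ih, pow_succ]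

theorem isUnit_val {W : Scheme.{u}} (s : EtCoh.ΓUnits.obj (op W)) : IsUnit (val s) := Units.isUnit _

variable {X : Scheme.{u}}

/-- the inclusion of the generic point -/
noncomputable abbrev gen (X : Scheme.{u}) [IrreducibleSpace X] : Spec (X.presheaf.stalk (genericPoint X)) ⟶ X :=
  X.fromSpecStalk (genericPoint X)

variable [AlgebraicGeometry.IsIntegral X]

/-- the comparison map -/
noncomputable abbrev φ (X : Scheme.{u}) [IrreducibleSpace X] :
    EtCoh.Gm X ⟶ (EtCoh.push (gen X)).obj (EtCoh.Gm (Spec (X.presheaf.stalk (genericPoint X)))) :=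
  EtLim.GmPush (gen X)

theorem val_φ {V : X.Etale} (s : (EtCoh.Gm X).obj.obj (op V)) :
    val ((φ X).hom.app (op V) s) = res (X := X) (W := V.left) V.hom (val (W := V.left) s) := rfl

theorem val_push_map {V V' : X.Etale} (g : V' ⟶ V)
    (s : ((EtCoh.push (gen X)).obj (EtCoh.Gm (Spec (X.presheaf.stalk (genericPoint X))))).obj.obj (op V)) :
    val (((EtCoh.push (gen X)).obj (EtCoh.Gm (Spec (X.presheaf.stalk (genericPoint X))))).obj.map g.op s) =
      ((EtCoh.bc (gen X)).map g).left.appTop (val s) := rfl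

theorem bc_res {V V' : X.Etale} (g : V' ⟶ V) (z : Γ(V.left, ⊤)) :
    ((EtCoh.bc (gen X)).map g).left.appTop (res (X := X) (W := V.left) V.hom z) =
      res (X := X) (W := V'.left) V'.hom (g.left.appTop z) := by
  have h := congrArg (fun k => Scheme.Hom.appTop k) ((EtCoh.isPullback_bc_map (gen X) g).w)
  simp only [Scheme.Hom.comp_appTop] at h
  exact congrArg (fun k => k.hom z) h

theorem str_comp {W W' : Scheme.{u}} (g : W' ⟶ W) {v : W ⟶ X} {v' : W' ⟶ X} (e : g ≫ v = v') {U : X.Opens}
    (hv : ⊤ ≤ v ⁻¹ᵁ U) (hv' : ⊤ ≤ v' ⁻¹ᵁ U) (a : Γ(X, U)) : g.appTop (str v hv a) = str v' hv' a := by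
  subst e
  have h := Scheme.Hom.appLE_comp_appLE g v U ⊤ ⊤ hv le_top
  rw [show g.appLE ⊤ ⊤ le_top = g.appTop by simp [Scheme.Hom.appLE]] at h
  exact congrArg (fun k => k.hom a) h

theorem topIso_ι_appTop {W : Scheme.{u}} (O : W.Opens) (z : Γ(W, ⊤)) :
    O.topIso.hom (O.ι.appTop z) = W.presheaf.map (homOfLE (le_top : O ≤ ⊤)).op z := by
  rw [← ConcreteCategory.comp_apply]
  congr 2
  simp [Scheme.Opens.topIso]
  exact (W.presheaf.map_comp _ _).symm.trans (congrArg W.presheaf.map (Subsingleton.elim _ _))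

theorem ι_appTop_eq {W : Scheme.{u}} (O : W.Opens) (z : Γ(W, ⊤)) (y : Γ(W, O))
    (h : W.presheaf.map (homOfLE (le_top : O ≤ ⊤)).op z = y) : O.ι.appTop z = O.topIso.inv y := by
  rw [← h, ← topIso_ι_appTop, Iso.hom_inv_id_apply]

end Groth.L28.Divisor
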