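import Mathlib.AlgebraicGeometry.FunctionField
import Mathlib.AlgebraicGeometry.Pullbacks
import Mathlib.AlgebraicGeometry.Stalk
import Mathlib.RingTheory.Localization.BaseChange

/-!
Functions on the generic fibre of an affine scheme over an integral scheme.
-/

set_option autoImplicit false
set_option linter.style.haveILetI false
set_option linter.unusedSectionVars false
set_option backward.isDefEq.respectTransparency.types false

universe u

open CategoryTheory CategoryTheory.Limits AlgebraicGeometry TensorProduct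

namespace Groth.L28.Divisor

variable {X : Scheme.{u}} [AlgebraicGeometry.IsIntegral X] {U : X.Opens} (hU : IsAffineOpen U)
  {W : Scheme.{u}} [IsAffine W] (v : W ⟶ X) (hv : ⊤ ≤ v ⁻¹ᵁ U)

/-- restriction of functions to the generic fibre -/
noncomputable abbrev res : Γ(W, ⊤) →+* Γ(pullback v (X.fromSpecStalk (genericPoint X)), ⊤) :=
  (pullback.fst v (X.fromSpecStalk (genericPoint X))).appTop.hom

/-- functions pulled back from the affine open -/
noncomputable abbrev str : Γ(X, U) →+* Γ(W, ⊤) := (v.appLE U ⊤ hv).hom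

include hU in
theorem exists_frac [Nonempty U] :
    (∀ s, ∃ (b : Γ(W, ⊤)) (a : Γ(X, U)), a ≠ 0 ∧ s * res v (str v hv a) = res v b) ∧
    (∀ b, res v b = 0 → ∃ a : Γ(X, U), a ≠ 0 ∧ str v hv a * b = 0) ∧
    ∀ a : Γ(X, U), a ≠ 0 → IsUnit (res v (str v hv a)) := by
  let A := Γ(X, U)
  let B := Γ(W, ⊤)
  haveI : Nonempty ↥(U : X.Opens) := ‹_›
  haveI := functionField_isFractionRing_of_isAffineOpen X U hU
  letI : Algebra A B := (str v hv).toAlgebra
  have hgU : genericPoint X ∈ U :=
    ((genericPoint_spec X).mem_open_set_iff U.isOpen).2 (by simpa using (inferInstance : Nonempty U))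
  let j := X.fromSpecStalk (genericPoint X)
  let l : W ⟶ Spec A := W.isoSpec.hom ≫ Spec.map (CommRingCat.ofHom (algebraMap A B))
  let m : Spec (CommRingCat.of X.functionField) ⟶ Spec A := Spec.map (CommRingCat.ofHom (algebraMap A X.functionField))
  have hl : l ≫ hU.fromSpec = v := by
    have h := hU.SpecMap_appLE_fromSpec v (isAffineOpen_top W) hv
    show (W.isoSpec.hom ≫ Spec.map (v.appLE U ⊤ hv)) ≫ hU.fromSpec = v
    rw [Category.assoc, h, IsAffineOpen.fromSpec_top, Iso.hom_inv_id_assoc]
  have hm : m ≫ hU.fromSpec = j := hU.fromSpecStalk_eq_fromSpecStalk hgU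
  have hP : IsPullback (pullback.fst v j) (pullback.snd v j) l m := by
    refine ⟨⟨(cancel_mono hU.fromSpec).1 (((Category.assoc _ _ _).trans
      (congrArg (_ ≫ ·) hl)).trans (pullback.condition.trans (((Category.assoc _ _ _).trans (congrArg (_ ≫ ·) hm)).symm)))⟩,
      ⟨PullbackCone.IsLimit.mk _ (fun s => pullback.lift s.fst s.snd (by
          exact ((congrArg (s.fst ≫ ·) hl.symm).trans (((Category.assoc _ _ _).symm.trans
            (congrArg (· ≫ hU.fromSpec) s.condition)).trans (Category.assoc _ _ _))).trans (congrArg (s.snd ≫ ·) hm)))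
        (fun s => pullback.lift_fst _ _ _) (fun s => pullback.lift_snd _ _ _) (fun s r h1 h2 => ?_)⟩⟩
    refine pullback.hom_ext ?_ ?_
    · rw [pullback.lift_fst]; exact h1
    · rw [pullback.lift_snd]; exact h2
  let T := B ⊗[A] X.functionField
  have hT : IsPullback (Spec.map (CommRingCat.ofHom (algebraMap B T)) ≫ W.isoSpec.inv)
      (Spec.map (CommRingCat.ofHom (Algebra.TensorProduct.includeRight (R := A) (A := B) (B := X.functionField)).toRingHom))
      l m :=
    (isPullback_SpecMap_of_isPushout _ _ _ _ (CommRingCat.isPushout_tensorProduct A B X.functionField)).of_iso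
      (Iso.refl _) W.isoSpec.symm (Iso.refl _) (Iso.refl _) (by simp [B, T]) (by simp)
      (by simp [l]) (by simp [m])
  let e : Spec (CommRingCat.of T) ≅ pullback v j := hT.isoIsPullback _ _ hP
  have he : e.hom ≫ pullback.fst v j = Spec.map (CommRingCat.ofHom (algebraMap B T)) ≫ W.isoSpec.inv :=
    IsPullback.isoIsPullback_hom_fst _ _ hT hP
  let φ : Γ(pullback v j, ⊤) ⟶ CommRingCat.of T := e.hom.appTop ≫ (Scheme.ΓSpecIso (CommRingCat.of T)).hom
  haveI : IsIso e.hom.appTop := inferInstanceAs (IsIso (e.hom.app ⊤))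
  haveI : IsIso φ := IsIso.comp_isIso
  have hφ : Function.Bijective φ.hom := ConcreteCategory.bijective_of_isIso φ
  have hr : (pullback.fst v j).appTop ≫ φ = CommRingCat.ofHom (algebraMap B T) := by
    show (pullback.fst v j).appTop ≫ e.hom.appTop ≫ (Scheme.ΓSpecIso (CommRingCat.of T)).hom = _
    rw [← Category.assoc, ← Scheme.Hom.comp_appTop, he, Scheme.Hom.comp_appTop, Category.assoc,
      Scheme.ΓSpecIso_naturality, ← Category.assoc]
    rw [show W.isoSpec.inv.appTop = (Scheme.ΓSpecIso Γ(W, ⊤)).inv from by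
      rw [← Iso.hom_comp_eq_id, ← Scheme.toSpecΓ_appTop, ← Scheme.Hom.comp_appTop]
      show (W.isoSpec.inv ≫ W.isoSpec.hom).appTop = _
      rw [Iso.inv_hom_id]
      rfl]
    exact Iso.inv_hom_id_assoc (Scheme.ΓSpecIso Γ(W, ⊤)) _
  have hr' : ∀ b, φ.hom (res v b) = algebraMap B T b := fun b => congrArg (fun k => k.hom b) hr
  haveI : IsLocalization (Algebra.algebraMapSubmonoid B (nonZeroDivisors A)) T :=
    IsLocalization.tensor X.functionField (nonZeroDivisors A)
  have hmem : ∀ y : Algebra.algebraMapSubmonoid B (nonZeroDivisors A),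
      ∃ a : A, a ≠ 0 ∧ (y : B) = str v hv a := fun y => by
    obtain ⟨a, ha, h⟩ := y.2
    exact ⟨a, nonZeroDivisors.ne_zero ha, h.symm⟩
  refine ⟨fun s => ?_, fun b hb => ?_, fun a ha => ?_⟩
  · obtain ⟨⟨b, y⟩, h⟩ := IsLocalization.surj (Algebra.algebraMapSubmonoid B (nonZeroDivisors A)) (φ.hom s)
    obtain ⟨a, ha, hy⟩ := hmem y
    refine ⟨b, a, ha, hφ.1 ?_⟩
    rw [map_mul, hr', hr', ← hy]
    exact h
  · obtain ⟨y, h⟩ := (IsLocalization.map_eq_zero_iff (Algebra.algebraMapSubmonoid B (nonZeroDivisors A)) T b).1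
      (by rw [← hr', hb, map_zero])
    obtain ⟨a, ha, hy⟩ := hmem y
    exact ⟨a, ha, hy ▸ h⟩
  · haveI : IsLocalHom φ.hom := isLocalHom_of_isIso φ
    refine isUnit_of_map_unit φ.hom _ ?_
    rw [hr']
    exact IsLocalization.map_units T (⟨str v hv a, a, mem_nonZeroDivisors_of_ne_zero ha, rfl⟩ :
      Algebra.algebraMapSubmonoid B (nonZeroDivisors A))

end Groth.L28.Divisor
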