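import Groth.Agent.L28.Divisor.Units

/-!
Local structure of the map from units to rational functions.
-/

set_option autoImplicit false
set_option linter.style.haveILetI false
set_option linter.unusedSectionVars false
set_option backward.isDefEq.respectTransparency.types false

universe u

open CategoryTheory CategoryTheory.Limits AlgebraicGeometry Opposite IsLocalRing
open Groth.L27.MV (oE)

namespace Groth.L28.Divisor

variable {X : Scheme.{u}} [AlgebraicGeometry.IsIntegral X]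

/-- the direct image of the units of the function field -/
noncomputable abbrev P (X : Scheme.{u}) [IrreducibleSpace X] : EtCoh.Ab X :=
  (EtCoh.push (gen X)).obj (EtCoh.Gm (Spec (X.presheaf.stalk (genericPoint X))))

/-- a small affine neighbourhood on an étale scheme -/
theorem exists_nbhd (V : X.Etale) (v : V.left) {U : X.Opens} (hx : V.hom v ∈ U) (O : V.left.Opens) (hO : v ∈ O) :
    ∃ (V' : X.Etale) (g : V' ⟶ V) (v' : V'.left), IsAffine V'.left ∧ g.left v' = v ∧
      (⊤ ≤ (V'.hom : V'.left ⟶ X) ⁻¹ᵁ U) ∧ (⊤ ≤ g.left ⁻¹ᵁ O) ∧ IsOpenImmersion g.left := by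
  let h : V.left ⟶ X := V.hom
  haveI : AlgebraicGeometry.Etale h := V.prop
  obtain ⟨A, hA, hvA, hAO⟩ := exists_isAffineOpen_mem_and_subset (x := v) (U := O ⊓ h ⁻¹ᵁ U) ⟨hO, hx⟩
  refine ⟨Scheme.Etale.mk (A.ι ≫ h), MorphismProperty.Over.homMk A.ι rfl, ⟨v, hvA⟩, hA, rfl, fun z _ => ?_,
    fun z _ => ?_, show IsOpenImmersion A.ι from inferInstance⟩
  · show h (A.ι z) ∈ U
    exact (hAO z.2).2
  · exact (hAO z.2).1

/-- a unit which is locally trivial on the generic fibre is locally trivial -/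
theorem exists_map_eq_zero (V : X.Etale) (s : (EtCoh.Gm X).obj.obj (op V)) (hs : (φ X).hom.app (op V) s = 0)
    (v : V.left) : ∃ (V' : X.Etale) (g : V' ⟶ V) (v' : V'.left), g.left v' = v ∧ (EtCoh.Gm X).obj.map g.op s = 0 := by
  obtain ⟨_, ⟨(U : X.Opens), hU, rfl⟩, hxU, -⟩ :=
    X.isBasis_affineOpens.exists_subset_of_mem_open (Set.mem_univ (V.hom v)) isOpen_univ
  obtain ⟨V₁, g₁, v₁, hA, hgv, hV₁, -, hg₁⟩ := exists_nbhd V v hxU ⊤ trivial
  let h₁ : V₁.left ⟶ X := V₁.hom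
  haveI : AlgebraicGeometry.Etale h₁ := V₁.prop
  let s₁ := (EtCoh.Gm X).obj.map g₁.op s
  have hz : (φ X).hom.app (op V₁) s₁ = 0 := by
    refine (NatTrans.naturality_apply (φ X).hom g₁.op s).trans ?_
    rw [hs, map_zero]
  have h1 : res (X := X) (W := V₁.left) V₁.hom (val (W := V₁.left) s₁) = res (X := X) (W := V₁.left) V₁.hom 1 := by
    rw [← val_φ, hz, map_one]
    rfl
  have h2 := grm_eq_of_res hU h₁ hV₁ v₁ h1
  obtain ⟨O, hO, hOeq⟩ := exists_open_eq v₁ h2
  let g₂ : Scheme.Etale.mk (O.ι ≫ h₁) ⟶ V₁ := MorphismProperty.Over.homMk O.ι rfl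
  refine ⟨_, g₂ ≫ g₁, ⟨v₁, hO⟩, hgv, ?_⟩
  rw [op_comp, Functor.map_comp_apply]
  refine val_inj (W := (O : Scheme.{u})) ?_
  show O.ι.appTop (val (W := V₁.left) s₁) = 1
  rw [map_one] at hOeq
  exact (ι_appTop_eq O _ 1 hOeq).trans (map_one _)

variable {U : X.Opens} (hU : IsAffineOpen U) (t : Γ(X, U))

include hU in
theorem isUnit_res_ι (ht : t ≠ 0) [IsAffine (U : Scheme.{u})] (hι : ⊤ ≤ U.ι ⁻¹ᵁ U) [Nonempty U] :
    IsUnit (res (X := X) (W := (oE U).left) (oE U).hom (str (X := X) (W := (oE U).left) (oE U).hom hι t)) :=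
  (exists_frac hU U.ι hι).2.2 t ht

/-- the uniformiser as a rational function -/
noncomputable def tη (h : IsUnit (res (X := X) (W := (oE U).left) (oE U).hom
    (str (X := X) (W := (oE U).left) (oE U).hom (U.ι_preimage_self).ge t))) : (P X).obj.obj (op (oE U)) :=
  mkU h.unit

theorem germ_mem_congr {p q : X} (e : p = q) (hp : p ∈ U) (hq : q ∈ U)
    (h : X.presheaf.germ U p hp t ∈ maximalIdeal (X.presheaf.stalk p)) :
    X.presheaf.germ U q hq t ∈ maximalIdeal (X.presheaf.stalk q) := by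
  subst e
  exact h

theorem span_congr {p q : X} (e : p = q) (hp : p ∈ U) (hq : q ∈ U)
    (h : maximalIdeal (X.presheaf.stalk p) = Ideal.span {X.presheaf.germ U p hp t}) :
    maximalIdeal (X.presheaf.stalk q) = Ideal.span {X.presheaf.germ U q hq t} := by
  subst e
  exact h

theorem germ_zero_congr {p q : X} (e : p = q) (hp : p ∈ U) (hq : q ∈ U)
    (h : X.presheaf.germ U p hp t = 0) : X.presheaf.germ U q hq t = 0 := by
  subst e
  exact h

variable (hres : IsUnit (res (X := X) (W := (oE U).left) (oE U).hom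
    (str (X := X) (W := (oE U).left) (oE U).hom (U.ι_preimage_self).ge t)))

theorem val_map_tη {V : X.Etale} (e : V ⟶ oE U) (hV : ⊤ ≤ (V.hom : V.left ⟶ X) ⁻¹ᵁ U) :
    val ((P X).obj.map e.op (tη t hres)) = res (X := X) (W := V.left) V.hom (str (X := X) (W := V.left) V.hom hV t) := by
  rw [val_push_map]
  show ((EtCoh.bc (gen X)).map e).left.appTop (res (X := X) (W := (oE U).left) (oE U).hom
    (str (X := X) (W := (oE U).left) (oE U).hom (U.ι_preimage_self).ge t)) = _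
  refine (bc_res (X := X) (V := oE U) (V' := V) e _).trans ?_
  exact congrArg _ (str_comp (X := X) (W := (oE U).left) (W' := V.left) (v := (oE U).hom) (v' := V.hom) e.left (MorphismProperty.Over.w e) _ _ t)

include hU in
/-- a uniformiser to a power is no unit -/
theorem eq_zero_of_nsmul (V : X.Etale) (v : V.left) (e : V ⟶ oE U)
    (hmem : X.presheaf.germ U (V.hom v) (by
      rw [← MorphismProperty.Over.w e]; exact (e.left v).2) t ∈ maximalIdeal (X.presheaf.stalk (V.hom v)))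
    (n : ℕ) (c : (EtCoh.Gm X).obj.obj (op V))
    (h : n • (P X).obj.map e.op (tη t hres) = (φ X).hom.app (op V) c) : n = 0 := by
  have hxU : V.hom v ∈ U := by
    rw [← MorphismProperty.Over.w e]; exact (e.left v).2
  obtain ⟨V₁, g₁, v₁, hA, hgv, hV₁, -, hg₁⟩ := exists_nbhd V v hxU ⊤ trivial
  let h₁ : V₁.left ⟶ X := V₁.hom
  haveI : AlgebraicGeometry.Etale h₁ := V₁.prop
  subst hgv
  refine pow_eq_zero_of_res hU h₁ hV₁ v₁ t ?_ 1 (val (W := V₁.left) ((EtCoh.Gm X).obj.map g₁.op c)) (isUnit_val _) n ?_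
  · have hh : h₁ v₁ = V.hom (g₁.left v₁) :=
      (congrArg (fun k : V₁.left ⟶ X => k v₁) (MorphismProperty.Over.w g₁)).symm.trans (Scheme.Hom.comp_apply _ _ _)
    exact germ_mem_congr t hh.symm _ _ hmem
  · have h2 := congrArg (fun z => val ((P X).obj.map g₁.op z)) h
    simp only [map_nsmul] at h2
    rw [← Functor.map_comp_apply, ← op_comp, ← NatTrans.naturality_apply (φ X).hom g₁.op c, val_φ] at h2
    rw [one_mul, map_pow, ← val_map_tη t hres (g₁ ≫ e) hV₁]
    exact (val_nsmul n _).symm.trans h2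

include hU in
/-- rational functions without zeros are locally units times powers of a uniformiser -/
theorem exists_decomp [IsLocallyNoetherian X] (V : X.Etale) (v : V.left) (hxU : V.hom v ∈ U)
    (ht : maximalIdeal (X.presheaf.stalk (V.hom v)) = Ideal.span {X.presheaf.germ U (V.hom v) hxU t})
    (s : (P X).obj.obj (op V)) :
    ∃ (V' : X.Etale) (g : V' ⟶ V) (v' : V'.left) (c : (EtCoh.Gm X).obj.obj (op V')) (n m : ℕ),
      g.left v' = v ∧ IsOpenImmersion g.left ∧ (X.presheaf.germ U (V.hom v) hxU t = 0 → n = 0 ∧ m = 0) ∧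
      (n = 0 → m = 0 → (P X).obj.map g.op s = (φ X).hom.app (op V') c) ∧
      ∀ hres : IsUnit (res (X := X) (W := (oE U).left) (oE U).hom
          (str (X := X) (W := (oE U).left) (oE U).hom (U.ι_preimage_self).ge t)),
        ∀ e : V' ⟶ oE U, (P X).obj.map g.op s + m • (P X).obj.map e.op (tη t hres) =
          (φ X).hom.app (op V') c + n • (P X).obj.map e.op (tη t hres) := by
  obtain ⟨V₁, g₁, v₁, hA, hgv, hV₁, -, hg₁⟩ := exists_nbhd V v hxU ⊤ trivial
  let h₁ : V₁.left ⟶ X := V₁.hom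
  haveI : AlgebraicGeometry.Etale h₁ := V₁.prop
  subst hgv
  let s₁ := (P X).obj.map g₁.op s
  have hp : h₁ v₁ = V.hom (g₁.left v₁) :=
    (congrArg (fun k : V₁.left ⟶ X => k v₁) (MorphismProperty.Over.w g₁)).symm.trans (Scheme.Hom.comp_apply _ _ _)
  obtain ⟨O, hO, b, a, β, α, n, m, hβ, hα, h0, hab, haO, hbO⟩ :=
    exists_local hU h₁ hV₁ v₁ t (span_congr t hp.symm hxU (hV₁ trivial) ht) (val s₁) (isUnit_val _)
  let g₂ : Scheme.Etale.mk (O.ι ≫ h₁) ⟶ V₁ := MorphismProperty.Over.homMk O.ι rfl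
  let V₂ : X.Etale := Scheme.Etale.mk (O.ι ≫ h₁)
  have hV₂ : ⊤ ≤ (V₂.hom : V₂.left ⟶ X) ⁻¹ᵁ U := fun z _ => hV₁ (trivial : O.ι z ∈ (⊤ : V₁.left.Opens))
  obtain ⟨α', hα'⟩ : ∃ α' : Γ(V₂.left, ⊤)ˣ, (α' : Γ(V₂.left, ⊤)) = O.topIso.inv α := hα.map O.topIso.inv.hom
  obtain ⟨β', hβ'⟩ : ∃ β' : Γ(V₂.left, ⊤)ˣ, (β' : Γ(V₂.left, ⊤)) = O.topIso.inv β := hβ.map O.topIso.inv.hom
  refine ⟨V₂, g₂ ≫ g₁, ⟨v₁, hO⟩, mkU (W := V₂.left) (β' * α'⁻¹), n, m, rfl, ?_, fun hz => h0 ?_, ?_⟩
  · haveI : IsOpenImmersion g₁.left := hg₁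
    exact inferInstanceAs (IsOpenImmersion (O.ι ≫ g₁.left))
  · rw [grm_str, germ_zero_congr t hp.symm hxU (hV₁ trivial) hz, map_zero]
  · let w : Γ(V₂.left, ⊤) := str (X := X) (W := V₂.left) V₂.hom hV₂ t
    have hw : O.ι.appTop (str (X := X) (W := V₁.left) V₁.hom hV₁ t) = w :=
      str_comp (X := X) (W := V₁.left) (W' := V₂.left) (v := h₁) (v' := V₂.hom) O.ι rfl hV₁ hV₂ t
    have ha : (O.ι.appTop a : Γ(V₂.left, ⊤)) = (α' : Γ(V₂.left, ⊤)) * w ^ m := by
      rw [← hw, ι_appTop_eq O a _ haO, map_mul, map_pow, hα', ι_appTop_eq O _ _ rfl]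
      rfl
    have hb : (O.ι.appTop b : Γ(V₂.left, ⊤)) = (β' : Γ(V₂.left, ⊤)) * w ^ n := by
      rw [← hw, ι_appTop_eq O b _ hbO, map_mul, map_pow, hβ', ι_appTop_eq O _ _ rfl]
      rfl
    have key := (map_mul ((EtCoh.bc (gen X)).map g₂).left.appTop.hom (val s₁) _).symm.trans
      (congrArg (((EtCoh.bc (gen X)).map g₂).left.appTop) hab)
    have k1 : ((EtCoh.bc (gen X)).map g₂).left.appTop (res (X := X) (W := V₁.left) V₁.hom a) =
        res (X := X) (W := V₂.left) V₂.hom (↑α' * w ^ m) :=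
      (bc_res (X := X) (V := V₁) (V' := V₂) g₂ a).trans (congrArg _ ha)
    have k2 : ((EtCoh.bc (gen X)).map g₂).left.appTop (res (X := X) (W := V₁.left) V₁.hom b) =
        res (X := X) (W := V₂.left) V₂.hom (↑β' * w ^ n) :=
      (bc_res (X := X) (V := V₁) (V' := V₂) g₂ b).trans (congrArg _ hb)
    let r := res (X := X) (W := V₂.left) V₂.hom
    let S : Γ(pullback (X := V₂.left) (Y := Spec (X.presheaf.stalk (genericPoint X))) V₂.hom (gen X), ⊤) :=
      ((EtCoh.bc (gen X)).map g₂).left.appTop (val s₁)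
    replace key : S * r (↑α' * w ^ m) = r (↑β' * w ^ n) := (congrArg (S * ·) k1).symm.trans (key.trans k2)
    have hS : S * r w ^ m = r (↑(β' * α'⁻¹)) * r w ^ n := by
      rw [map_mul, map_mul, map_pow, map_pow] at key
      refine (α'.isUnit.map r).mul_left_inj.1 ?_
      rw [mul_right_comm, mul_assoc, mul_right_comm (r ↑(β' * α'⁻¹)), ← map_mul r (↑(β' * α'⁻¹) : Γ(V₂.left, ⊤)),
        ← Units.val_mul, inv_mul_cancel_right]
      exact key
    have e3 : val ((φ X).hom.app (op V₂) (mkU (W := V₂.left) (β' * α'⁻¹))) = r (↑(β' * α'⁻¹)) :=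
      (val_φ (V := V₂) _).trans rfl
    have e4 : val ((P X).obj.map (g₂ ≫ g₁).op s) = S := by
      rw [op_comp, Functor.map_comp_apply]
      rfl
    refine ⟨fun hn hm => val_inj ?_, fun hres e => ?_⟩
    · rw [hn, hm, pow_zero, mul_one, mul_one] at hS
      exact e4.trans (hS.trans e3.symm)
    · have e1 : val (m • (P X).obj.map e.op (tη t hres)) = r w ^ m :=
        (val_nsmul m _).trans (congrArg (· ^ m) (val_map_tη t hres e hV₂))
      have e2 : val (n • (P X).obj.map e.op (tη t hres)) = r w ^ n :=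
        (val_nsmul n _).trans (congrArg (· ^ n) (val_map_tη t hres e hV₂))
      refine val_inj ?_
      refine (val_add _ _).trans ((congrArg₂ (· * ·) e4 e1).trans (hS.trans ?_))
      exact ((val_add _ _).trans (congrArg₂ (· * ·) e3 e2)).symm

end Groth.L28.Divisor
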